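import Cfsg.Agent.Transfer.PGroupNormal
import Cfsg.Agent.KFacts.ON.Words_m3
import Cfsg.Prelude.Def_CaseTheorems
import Cfsg.Agent.Lib.PackCol
import Cfsg.Agent.FastGrp
import Cfsg.Agent.Prune
set_option linter.all false

section
prune_inst 0x7f00000000000000000000000000000000000000000000000000000000000000000000000000000000000000000000000000000000000000000000000000000000000000000000000000000000000000003fffffffffffffffffffffffffffbeffbdffffffff

-- part: KFacts/ON/Struct
section
set_option linter.all false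
open scoped Cfsg.Agent.FastGrp

-- part: KFacts/ON/SimpleCrit
section
/-!
# A criterion for simplicity

`Q` perfect, `a ∈ Q` an involution with normal closure `Q`, `C(a)` a 2-group, the central involutions of a Sylow
2-subgroup are conjugate to `a`: then `Q` is simple.
-/

set_option autoImplicit false

namespace Cfsg.Agent.KFacts.ON.SimpleCrit

open Subgroup

variable {Q : Type*} [Group Q] [Finite Q]

/-- the automorphism of a normal subgroup induced by an element is inversion, if fixed-point-free and involutive -/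
theorem inverts {N : Subgroup Q} (hN : N.Normal) {a : Q} (haa : a * a = 1)
    (h : ∀ x ∈ N, x * a = a * x → x = 1) {x : Q} (hx : x ∈ N) : a * x * a⁻¹ = x⁻¹ := by
  let φ : N →* N := (MulAut.conjNormal a).toMonoidHom
  have hφ : MonoidHom.FixedPointFree φ := by
    intro g hg
    have h1 : a * (g : Q) * a⁻¹ = g := congrArg Subtype.val hg
    have h2 := h g g.2 (by rw [mul_inv_eq_iff_eq_mul] at h1; exact h1.symm)
    exact Subtype.ext h2
  have hinv : Function.Involutive φ := by
    intro g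
    apply Subtype.ext
    show a * (a * (g : Q) * a⁻¹) * a⁻¹ = g
    have : a⁻¹ = a := inv_eq_of_mul_eq_one_right haa
    rw [this]
    calc a * (a * (g : Q) * a) * a = (a * a) * g * (a * a) := by group
      _ = g := by rw [haa, one_mul, mul_one]
  have h1 := congrFun (MonoidHom.FixedPointFree.coe_eq_inv_of_involutive hφ hinv) ⟨x, hx⟩
  exact congrArg Subtype.val h1

theorem simple_of [Nontrivial Q] {a : Q} (haa : a * a = 1) (hperf : commutator Q = ⊤)
    (hcl : ∀ N : Subgroup Q, N.Normal → a ∈ N → N = ⊤)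
    (hC : ∀ x, x * a = a * x → ∃ n : ℕ, x ^ (2 ^ n) = 1)
    (S : Sylow 2 Q) (hS : ∀ x ∈ S, (∀ y ∈ S, x * y = y * x) → x = 1 ∨ ∃ g : Q, g * a * g⁻¹ = x) :
    IsSimpleGroup Q := by
  have : Fact (Nat.Prime 2) := ⟨Nat.prime_two⟩
  refine ⟨fun N hN => ?_⟩
  by_cases h2' : 2 ∣ Nat.card N
  · right
    -- `N ⊓ S ≠ ⊥`
    obtain ⟨x, hx⟩ := exists_prime_orderOf_dvd_card' 2 h2'
    have hxx : (x : Q) ^ 2 = 1 := by
      have := pow_orderOf_eq_one x
      rw [hx] at this
      exact congrArg Subtype.val this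
    have hx1 : (x : Q) ≠ 1 := by
      intro h
      have h1 : x = 1 := Subtype.ext h
      rw [h1, orderOf_one] at hx
      exact absurd hx (by norm_num)
    have hp : IsPGroup 2 (zpowers (x : Q)) := by
      refine IsPGroup.of_card (n := 1) ?_
      rw [Nat.card_zpowers, pow_one]
      exact orderOf_eq_prime hxx hx1
    obtain ⟨T, hT⟩ := hp.exists_le_sylow
    obtain ⟨g, hg⟩ := MulAction.exists_smul_eq Q T S
    have hgx : g * x * g⁻¹ ∈ (S : Subgroup Q) := by
      have h1 : (x : Q) ∈ (T : Subgroup Q) := hT (mem_zpowers _)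
      rw [← hg]
      exact ⟨x, h1, rfl⟩
    have hgN : g * x * g⁻¹ ∈ N := hN.conj_mem x x.2 g
    have hne : N.subgroupOf (S : Subgroup Q) ≠ ⊥ := by
      intro h
      have h1 : (⟨g * x * g⁻¹, hgx⟩ : (S : Subgroup Q)) ∈ N.subgroupOf (S : Subgroup Q) := hgN
      rw [h, mem_bot] at h1
      have h2 : g * x * g⁻¹ = 1 := congrArg Subtype.val h1
      apply hx1
      calc (x : Q) = g⁻¹ * (g * x * g⁻¹) * g := by group
        _ = 1 := by rw [h2]; group
    have hnorm : (N.subgroupOf (S : Subgroup Q)).Normal := hN.subgroupOf _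
    obtain ⟨z, hzN, hzc, hz2⟩ := Cfsg.Agent.Transfer.PGroupNormal.exists_mem_inf_center_orderOf S.isPGroup'
      (N.subgroupOf (S : Subgroup Q)) hne
    have hzN' : (z : Q) ∈ N := hzN
    rcases hS z z.2 (fun y hy => by
      have := mem_center_iff.1 hzc ⟨y, hy⟩
      exact (congrArg Subtype.val this).symm) with h | ⟨g, hg⟩
    · exfalso
      have h1 : z = 1 := Subtype.ext h
      rw [h1, orderOf_one] at hz2
      exact absurd hz2 (by norm_num)
    · apply hcl N hN
      have h1 := hN.conj_mem z hzN' g⁻¹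
      rw [← hg] at h1
      have h2 : g⁻¹ * (g * a * g⁻¹) * g⁻¹⁻¹ = a := by group
      rwa [h2] at h1
  · left
    -- involutions conjugate to `a` invert `N`
    have hinv : ∀ g : Q, ∀ x ∈ N, (g * a * g⁻¹) * x * (g * a * g⁻¹)⁻¹ = x⁻¹ := by
      intro g x hx
      refine inverts hN ?_ ?_ hx
      · calc g * a * g⁻¹ * (g * a * g⁻¹) = g * (a * a) * g⁻¹ := by group
          _ = 1 := by rw [haa]; group
      · intro y hy hya
        have h1 : (g⁻¹ * y * g) * a = a * (g⁻¹ * y * g) := by
          calc (g⁻¹ * y * g) * a = g⁻¹ * (y * (g * a * g⁻¹)) * g := by group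
            _ = g⁻¹ * ((g * a * g⁻¹) * y) * g := by rw [hya]
            _ = a * (g⁻¹ * y * g) := by group
        obtain ⟨n, hn⟩ := hC _ h1
        have h2 : y ^ (2 ^ n) = 1 := by
          have h3 : (g⁻¹ * y * g) ^ (2 ^ n) = g⁻¹ * y ^ (2 ^ n) * g := by
            have := conj_pow (i := 2 ^ n) (a := g⁻¹) (b := y)
            rwa [inv_inv] at this
          rw [h3] at hn
          calc y ^ (2 ^ n) = g * (g⁻¹ * y ^ (2 ^ n) * g) * g⁻¹ := by group
            _ = 1 := by rw [hn]; group
        have h3 : orderOf (⟨y, hy⟩ : N) ∣ 2 ^ n := by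
          apply orderOf_dvd_of_pow_eq_one
          exact Subtype.ext h2
        have h4 : orderOf (⟨y, hy⟩ : N) ∣ Nat.card N := orderOf_dvd_natCard _
        have h5 : Nat.Coprime (2 ^ n) (Nat.card N) :=
          Nat.Coprime.pow_left n ((Nat.Prime.coprime_iff_not_dvd Nat.prime_two).2 h2')
        have h6 : orderOf (⟨y, hy⟩ : N) = 1 := Nat.eq_one_of_dvd_coprimes h5 h3 h4
        exact congrArg Subtype.val (orderOf_eq_one_iff.1 h6)
    -- the centraliser of `N` contains the commutators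
    set C : Subgroup Q := centralizer (N : Set Q) with hCdef
    have hCn : C.Normal := by
      rw [hCdef]
      infer_instance
    have hab : ∀ g : Q, a⁻¹ * (g * a * g⁻¹) ∈ C := by
      intro g
      rw [hCdef, mem_centralizer_iff]
      intro x hx
      have h1 := hinv g x hx
      have h2 : a * x⁻¹ * a⁻¹ = x := by
        have := hinv 1 x⁻¹ (N.inv_mem hx)
        rwa [one_mul, inv_one, mul_one, inv_inv] at this
      have h3 : a⁻¹ * x⁻¹ * a = x := by
        have ha : a⁻¹ = a := inv_eq_of_mul_eq_one_right haa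
        rw [ha] at h2 ⊢
        exact h2
      have h4 : (a⁻¹ * (g * a * g⁻¹)) * x * (a⁻¹ * (g * a * g⁻¹))⁻¹ = x := by
        calc (a⁻¹ * (g * a * g⁻¹)) * x * (a⁻¹ * (g * a * g⁻¹))⁻¹
            = a⁻¹ * ((g * a * g⁻¹) * x * (g * a * g⁻¹)⁻¹) * a := by group
          _ = a⁻¹ * x⁻¹ * a := by rw [h1]
          _ = x := h3
      exact (mul_inv_eq_iff_eq_mul.1 h4).symm
    -- `C ⊔ ⟨a⟩ = ⊤`
    have hD : C ⊔ zpowers a = ⊤ := by
      apply hcl
      · refine ⟨fun x hx g => ?_⟩
        rw [mem_sup_of_normal_left] at hx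
        obtain ⟨c, hc, z, hz, rfl⟩ := hx
        obtain ⟨k, rfl⟩ := mem_zpowers_iff.1 hz
        have h1 : g * (c * a ^ k) * g⁻¹ = (g * c * g⁻¹) * (g * a * g⁻¹) ^ k := by
          rw [conj_zpow]; group
        rw [h1]
        apply mul_mem
        · exact mem_sup_left (hCn.conj_mem c hc g)
        · apply zpow_mem
          have h2 : g * a * g⁻¹ = a * (a⁻¹ * (g * a * g⁻¹)) := by group
          rw [h2]
          exact mul_mem (mem_sup_right (mem_zpowers a)) (mem_sup_left (hab g))
      · exact mem_sup_right (mem_zpowers a)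
    have hCtop : C = ⊤ := by
      rw [eq_top_iff, ← hperf, commutator_def, commutator_le]
      intro x _ y _
      have hx : x ∈ C ⊔ zpowers a := by rw [hD]; exact mem_top x
      have hy : y ∈ C ⊔ zpowers a := by rw [hD]; exact mem_top y
      rw [mem_sup_of_normal_left] at hx hy
      obtain ⟨c, hc, z, hz, rfl⟩ := hx
      obtain ⟨c', hc', z', hz', rfl⟩ := hy
      rw [← QuotientGroup.eq_one_iff]
      have e1 : QuotientGroup.mk' C c = 1 := (QuotientGroup.eq_one_iff _).2 hc
      have e2 : QuotientGroup.mk' C c' = 1 := (QuotientGroup.eq_one_iff _).2 hc'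
      obtain ⟨k, rfl⟩ := mem_zpowers_iff.1 hz
      obtain ⟨k', rfl⟩ := mem_zpowers_iff.1 hz'
      rw [commutatorElement_def]
      show QuotientGroup.mk' C (c * a ^ k * (c' * a ^ k') * (c * a ^ k)⁻¹ * (c' * a ^ k')⁻¹) = 1
      rw [map_mul, map_mul, map_mul, map_inv, map_inv, map_mul, map_mul, map_zpow, map_zpow, e1, e2, one_mul,
        one_mul]
      group
    rw [eq_bot_iff]
    intro x hx
    rw [mem_bot]
    have h1 : a ∈ C := by rw [hCtop]; exact mem_top a
    have h2 := mem_centralizer_iff.1 h1 x hx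
    have h3 := hinv 1 x hx
    rw [one_mul, inv_one, mul_one, ← h2, mul_inv_cancel_right] at h3
    -- `x = x⁻¹`
    have h4 : x ^ 2 = 1 := by rw [pow_two]; nth_rewrite 1 [h3]; exact inv_mul_cancel x
    have h5 : orderOf (⟨x, hx⟩ : N) ∣ 2 := by
      apply orderOf_dvd_of_pow_eq_one
      exact Subtype.ext h4
    have h6 : orderOf (⟨x, hx⟩ : N) ∣ Nat.card N := orderOf_dvd_natCard _
    have h7 : Nat.Coprime 2 (Nat.card N) := (Nat.Prime.coprime_iff_not_dvd Nat.prime_two).2 h2'
    have h8 : orderOf (⟨x, hx⟩ : N) = 1 := Nat.eq_one_of_dvd_coprimes h7 h5 h6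
    exact congrArg Subtype.val (orderOf_eq_one_iff.1 h8)

end Cfsg.Agent.KFacts.ON.SimpleCrit
end

-- part: KFacts/ON/Struct
section
/-!
# The subgroup `J = C(v)` of `C(f)` in the presented O'Nan group

`J` is normal of index 2 in `C(f)`, perfect, and `a` lies in no proper normal subgroup.
-/

set_option autoImplicit false
set_option maxRecDepth 100000

namespace Cfsg.Agent.KFacts.ON.Struct

open Subgroup
open Cfsg.Spor (ON)
open Cfsg.Spor.ON (Gen)
open Cfsg.Agent.SporadicB.ON45Word (on)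
open Cfsg.Agent.KFacts.MulSpor.ON (w w_append w_one w_cons w_iw iw eqw cj)
open Cfsg.Agent.KFacts.ON.Cent (hON finite_ON cen card_K0)
open Cfsg.Agent.KFacts.ON.Words
open Cfsg.Agent.ONType
open Cfsg.Agent.ONType.TupK (K0)
open scoped commutatorElement

/-! ### Conjugation on `⟨v⟩` -/

theorem mem_K0 {x : ON} : x ∈ K0 ↔ x * on .f = on .f * x := cen.mem x

theorem d_mem : on .d ∈ K0 := TupS.T0_le TupT0.d_mem
theorem a_mem : on .a ∈ K0 := TupS.T0_le (TupT0.a_mem hs)
theorem c_mem : on .c ∈ K0 := TupS.T0_le TupT0.c_mem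
theorem g_mem : on .g ∈ K0 := TupS.T0_le TupT0.g_mem
theorem b_mem : on .b ∈ K0 := TupleClass.b_mem
theorem f_mem : on .f ∈ K0 := TupS.T0_le (TupT0.f_mem hs)

theorem dd : on .d * on .d = 1 := by
  have h := MulSpor.ON.r_d hs
  simpa [w] using h

theorem aa : on .a * on .a = 1 := TupleClass.aa hs
theorem bb : on .b * on .b = 1 := TupleClass.bb hs
theorem ff : on .f * on .f = 1 := TupleClass.ff hs

theorem conj_v {x : ON} (hx : x ∈ K0) : x * v * x⁻¹ = v ∨ x * v * x⁻¹ = v⁻¹ := by
  rw [← TupleClass.closure_eq] at hx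
  induction hx using Subgroup.closure_induction with
  | mem x hx =>
    simp only [Set.mem_insert_iff, Set.mem_singleton_iff] at hx
    rcases hx with rfl | rfl | rfl | rfl | rfl
    · left; rw [va]; group
    · left; rw [vb]; group
    · left; rw [vc]; group
    · right; exact vd
    · right; exact vg
  | one => left; group
  | mul x y _ _ hx hy =>
    have e : x * y * v * (x * y)⁻¹ = x * (y * v * y⁻¹) * x⁻¹ := by group
    rw [e]
    rcases hy with hy | hy
    · rw [hy]; exact hx
    · rw [hy]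
      have e2 : x * v⁻¹ * x⁻¹ = (x * v * x⁻¹)⁻¹ := by group
      rw [e2]
      rcases hx with hx | hx
      · right; rw [hx]
      · left; rw [hx, inv_inv]
  | inv x _ hx =>
    rcases hx with hx | hx
    · left
      calc x⁻¹ * v * x⁻¹⁻¹ = x⁻¹ * (x * v * x⁻¹) * x := by nth_rewrite 1 [hx]; group
        _ = v := by group
    · right
      have e : v = (x * v * x⁻¹)⁻¹ := by rw [hx, inv_inv]
      calc x⁻¹ * v * x⁻¹⁻¹ = x⁻¹ * ((x * v * x⁻¹)⁻¹) * x := by rw [← e]; group
        _ = v⁻¹ := by group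

/-! ### The subgroup `J` -/

/-- the centraliser of `v` -/
def J : Subgroup ON := centralizer ({v} : Set ON)

theorem mem_J {x : ON} : x ∈ J ↔ x * v = v * x := mem_centralizer_singleton_iff

theorem J_le : J ≤ K0 := by
  intro x hx
  rw [mem_J] at hx
  rw [mem_K0, ← vv]
  calc x * (v * v) = (x * v) * v := by group
    _ = v * x * v := by rw [hx]
    _ = v * (x * v) := by group
    _ = v * v * x := by rw [hx]; group

theorem aJ : on .a ∈ J := mem_J.2 va
theorem bJ : on .b ∈ J := mem_J.2 vb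
theorem cJ : on .c ∈ J := mem_J.2 vc
theorem vJ : v ∈ J := mem_J.2 rfl
theorem fJ : on .f ∈ J := by rw [← vv]; exact J.mul_mem vJ vJ

theorem f_ne_one : on .f ≠ 1 := by
  have h : TupRow.neJ [7] [] = true := by decide +kernel
  have := TupRow.neJ_spec h
  simp only [SporadicRecognition.CosetCert.ev_cons, SporadicRecognition.CosetCert.ev_nil, mul_one] at this
  exact this

theorem v_ne_inv : v ≠ v⁻¹ := by
  intro h
  apply f_ne_one
  rw [← vv]
  nth_rewrite 2 [h]
  exact mul_inv_cancel v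

theorem d_not_mem : on .d ∉ J := by
  intro h
  rw [mem_J] at h
  apply v_ne_inv
  rw [← vd, h, mul_inv_cancel_right]

theorem d_inv : (on .d)⁻¹ = on .d := inv_eq_of_mul_eq_one_right dd

theorem mem_J_or {x : ON} (hx : x ∈ K0) : x ∈ J ∨ x * on .d ∈ J := by
  rcases conj_v hx with h | h
  · left
    rw [mem_J]
    exact mul_inv_eq_iff_eq_mul.1 h
  · right
    rw [mem_J]
    have h1 : x * on .d * v * (x * on .d)⁻¹ = v := by
      calc x * on .d * v * (x * on .d)⁻¹ = x * (on .d * v * (on .d)⁻¹) * x⁻¹ := by group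
        _ = (x * v * x⁻¹)⁻¹ := by rw [vd]; group
        _ = v := by rw [h, inv_inv]
    exact mul_inv_eq_iff_eq_mul.1 h1

theorem J_normal {k x : ON} (hk : k ∈ K0) (hx : x ∈ J) : k * x * k⁻¹ ∈ J := by
  rw [mem_J] at hx ⊢
  have e : ∀ u : ON, u = k * v * k⁻¹ → k * x * k⁻¹ * u = u * (k * x * k⁻¹) := by
    rintro _ rfl
    calc k * x * k⁻¹ * (k * v * k⁻¹) = k * (x * v) * k⁻¹ := by group
      _ = k * (v * x) * k⁻¹ := by rw [hx]
      _ = _ := by group
  rcases conj_v hk with h | h
  · exact e v h.symm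
  · have h1 := e v⁻¹ h.symm
    -- commuting with `v⁻¹`
    have h2 := congrArg (fun y => v * y * v) h1
    calc k * x * k⁻¹ * v = v * (v⁻¹ * (k * x * k⁻¹)) * v := by group
      _ = v * (k * x * k⁻¹ * v⁻¹) * v := by rw [h1]
      _ = v * (k * x * k⁻¹) := by group

theorem index_J : (J.subgroupOf K0).index = 2 := by
  rw [Subgroup.index_eq_two_iff]
  refine ⟨⟨on .d, d_mem⟩, ?_⟩
  rintro ⟨x, hx⟩
  rw [Subgroup.mem_subgroupOf, Subgroup.mem_subgroupOf]
  show Xor' (x * on .d ∈ J) (x ∈ J)
  have hnot : ¬ (x * on .d ∈ J ∧ x ∈ J) := by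
    rintro ⟨h2, h3⟩
    apply d_not_mem
    have := J.mul_mem (J.inv_mem h3) h2
    rwa [inv_mul_cancel_left] at this
  rcases mem_J_or hx with h | h
  · exact Or.inr ⟨h, fun h' => hnot ⟨h', h⟩⟩
  · exact Or.inl ⟨h, fun h' => hnot ⟨h, h'⟩⟩

theorem card_J : Nat.card J = 80640 := by
  have h2 := Subgroup.card_mul_index (J.subgroupOf K0)
  rw [index_J, Nat.card_congr (Subgroup.subgroupOfEquivOfLe J_le).toEquiv, card_K0] at h2
  omega

/-! ### Normal subgroups containing `a` -/

/-- the involution `s` swaps `a` and `af` -/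
def s : ON := w [.b, .a, .c, .b, .d, .c, .b, .d, .g, .g, .g, .b, .c, .g, .b]

theorem sJ : s ∈ J := by
  rw [mem_J, s, v, ← w_append, ← w_append]
  exact Words.eq _ _ (by decide +kernel)

theorem sa : s * on .a * s⁻¹ = on .a * on .f := by
  have h : s * w [.a] * s⁻¹ = w [.a, .f] := Words.conj _ _ _ (by decide +kernel)
  rw [wa, w_cons, w_one] at h
  exact h

theorem ab_conj : (on .a * on .b) * on .a * (on .a * on .b)⁻¹ = on .b := by
  have h : w [.a, .b] * w [.a] * (w [.a, .b])⁻¹ = w [.b] := Words.conj _ _ _ (by decide +kernel)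
  rw [wa, wb, w_cons, w_one] at h
  exact h

theorem bc_conj : (on .b * on .c) * on .b * (on .b * on .c)⁻¹ = on .c := by
  have h : w [.b, .c] * w [.b] * (w [.b, .c])⁻¹ = w [.c] := Words.conj _ _ _ (by decide +kernel)
  rw [wb, wc, w_cons, w_one] at h
  exact h

theorem bd_conj : on .d * on .b * (on .d)⁻¹ = on .b := by
  have h : w [.d] * w [.b] * (w [.d])⁻¹ = w [.b] := Words.conj _ _ _ (by decide +kernel)
  rw [wd, wb] at h
  exact h

theorem ad_conj : on .d * on .a * (on .d)⁻¹ = on .a := by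
  have h : w [.d] * w [.a] * (w [.d])⁻¹ = w [.a] := Words.conj _ _ _ (by decide +kernel)
  rw [wd, wa] at h
  exact h

theorem bcdg5 : (on .b * on .c * (on .d * on .g)) ^ 5 = 1 := by
  have h : w [.b, .c, .d, .g, .b, .c, .d, .g, .b, .c, .d, .g, .b, .c, .d, .g, .b, .c, .d, .g] = w [] :=
    Words.eq _ _ (by decide +kernel)
  simpa [w, pow_succ, mul_assoc] using h

theorem cd4 : (on .c * (on .d * on .c * on .d)) ^ 2 = on .a * on .f := by
  have h : w [.c, .d, .c, .d, .c, .d, .c, .d] = w [.a, .f] := Words.eq _ _ (by decide +kernel)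
  simpa [w, pow_succ, mul_assoc] using h

theorem pow_mem_aux {G : Type*} [Group G] {N : Subgroup G} {u n : G} (hu : ∀ x ∈ N, u * x * u⁻¹ ∈ N) (hn : n ∈ N)
    (k : ℕ) : (n * u) ^ k * (u ^ k)⁻¹ ∈ N ∧ u ^ k * n * (u ^ k)⁻¹ ∈ N := by
  induction k with
  | zero => simpa using hn
  | succ k ih =>
    constructor
    · have e : (n * u) ^ (k + 1) * (u ^ (k + 1))⁻¹ = ((n * u) ^ k * (u ^ k)⁻¹) * (u ^ k * n * (u ^ k)⁻¹) := by
        rw [pow_succ, pow_succ]; group
      rw [e]
      exact N.mul_mem ih.1 ih.2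
    · have e : u ^ (k + 1) * n * (u ^ (k + 1))⁻¹ = u * (u ^ k * n * (u ^ k)⁻¹) * u⁻¹ := by
        rw [pow_succ']; group
      rw [e]
      exact hu _ ih.2

theorem J_le_of {N : Subgroup ON} (hNJ : N ≤ J) (hn : ∀ k ∈ K0, ∀ n ∈ N, k * n * k⁻¹ ∈ N) (ha : on .a ∈ N) :
    J ≤ N := by
  have hb : on .b ∈ N := by rw [← ab_conj]; exact hn _ (K0.mul_mem a_mem b_mem) _ ha
  have hc : on .c ∈ N := by rw [← bc_conj]; exact hn _ (K0.mul_mem b_mem c_mem) _ hb
  have haf : on .a * on .f ∈ N := by rw [← sa]; exact hn _ (J_le sJ) _ ha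
  have hf : on .f ∈ N := by
    have := N.mul_mem (N.inv_mem ha) haf
    rwa [inv_mul_cancel_left] at this
  have hdgK : on .d * on .g ∈ K0 := K0.mul_mem d_mem g_mem
  have hdg : on .d * on .g ∈ N := by
    obtain ⟨u, hu⟩ : ∃ u, u = on .d * on .g := ⟨_, rfl⟩
    have h1 := (pow_mem_aux (N := N) (u := on .d * on .g) (n := on .b * on .c) (hn _ hdgK) (N.mul_mem hb hc) 5).1
    rw [bcdg5, one_mul] at h1
    have h2 := N.inv_mem h1
    rw [inv_inv, pow_succ, dg4] at h2
    have h3 := N.mul_mem (N.inv_mem hf) h2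
    rwa [inv_mul_cancel_left] at h3
  have hdN : ∀ x ∈ N, on .d * x * on .d ∈ N := by
    intro x hx
    have := hn _ d_mem _ hx
    rwa [d_inv] at this
  have key : ∀ x ∈ K0, x ∈ N ∨ x * on .d ∈ N := by
    intro x hx
    rw [← TupleClass.closure_eq] at hx
    induction hx using Subgroup.closure_induction with
    | mem x hx =>
      simp only [Set.mem_insert_iff, Set.mem_singleton_iff] at hx
      rcases hx with rfl | rfl | rfl | rfl | rfl
      · exact Or.inl ha
      · exact Or.inl hb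
      · exact Or.inl hc
      · right; rw [dd]; exact N.one_mem
      · right
        have e : on .g * on .d = on .d * (on .d * on .g) * on .d := by
          rw [← mul_assoc (on .d) (on .d), dd, one_mul]
        rw [e]
        exact hdN _ hdg
    | one => exact Or.inl N.one_mem
    | mul x y _ _ hx hy =>
      rcases hx with hx | hx <;> rcases hy with hy | hy
      · exact Or.inl (N.mul_mem hx hy)
      · right
        rw [mul_assoc]; exact N.mul_mem hx hy
      · right
        have e : x * y * on .d = (x * on .d) * (on .d * y * on .d) := by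
          calc x * y * on .d = x * (on .d * on .d) * y * on .d := by rw [dd, mul_one]
            _ = _ := by group
        rw [e]
        exact N.mul_mem hx (hdN _ hy)
      · left
        have e : x * y = (x * on .d) * (on .d * (y * on .d) * on .d) := by
          calc x * y = x * (on .d * on .d) * y * (on .d * on .d) := by rw [dd, mul_one, mul_one]
            _ = _ := by group
        rw [e]
        exact N.mul_mem hx (hdN _ hy)
    | inv x _ hx =>
      rcases hx with hx | hx
      · exact Or.inl (N.inv_mem hx)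
      · right
        have e : x⁻¹ * on .d = on .d * (x * on .d)⁻¹ * on .d := by
          rw [mul_inv_rev, d_inv, ← mul_assoc, dd, one_mul]
        rw [e]
        exact hdN _ (N.inv_mem hx)
  intro x hx
  rcases key x (J_le hx) with h | h
  · exact h
  · exfalso
    apply d_not_mem
    have := J.mul_mem (J.inv_mem hx) (hNJ h)
    rwa [inv_mul_cancel_left] at this

/-- a subgroup of `J` normalised by `J` and containing `a` is `J` -/
theorem eq_J_of {N : Subgroup ON} (hNJ : N ≤ J) (hn : ∀ k ∈ J, ∀ n ∈ N, k * n * k⁻¹ ∈ N) (ha : on .a ∈ N) :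
    N = J := by
  apply le_antisymm hNJ
  set M : Subgroup ON := N ⊓ N.map (MulAut.conj (on .d)).toMonoidHom with hM
  have hmem : ∀ x, x ∈ M ↔ x ∈ N ∧ on .d * x * on .d ∈ N := by
    intro x
    rw [hM, mem_inf]
    refine and_congr_right fun _ => ?_
    constructor
    · rintro ⟨y, hy, rfl⟩
      show on .d * (on .d * y * (on .d)⁻¹) * on .d ∈ N
      have e : on .d * (on .d * y * (on .d)⁻¹) * on .d = y := by
        rw [d_inv]
        calc on .d * (on .d * y * on .d) * on .d = (on .d * on .d) * y * (on .d * on .d) := by group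
          _ = y := by rw [dd, one_mul, mul_one]
      rw [e]; exact hy
    · intro h
      refine ⟨_, h, ?_⟩
      show on .d * (on .d * x * on .d) * (on .d)⁻¹ = x
      rw [d_inv]
      calc on .d * (on .d * x * on .d) * on .d = (on .d * on .d) * x * (on .d * on .d) := by group
        _ = x := by rw [dd, one_mul, mul_one]
  have hMN : M ≤ N := inf_le_left
  refine (J_le_of (N := M) (hMN.trans hNJ) ?_ ?_).trans hMN
  · -- normalised by `K0`
    have hJ : ∀ k ∈ J, ∀ x ∈ M, k * x * k⁻¹ ∈ M := by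
      intro k hk x hx
      rw [hmem] at hx ⊢
      refine ⟨hn k hk x hx.1, ?_⟩
      have hk' : on .d * k * on .d ∈ J := by
        have := J_normal d_mem hk
        rwa [d_inv] at this
      have h1 := hn _ hk' _ hx.2
      have e : on .d * k * on .d * (on .d * x * on .d) * (on .d * k * on .d)⁻¹ =
          on .d * (k * x * k⁻¹) * on .d := by
        rw [mul_inv_rev, mul_inv_rev, d_inv]
        calc on .d * k * on .d * (on .d * x * on .d) * (on .d * (k⁻¹ * on .d))
            = on .d * k * (on .d * on .d) * x * (on .d * on .d) * k⁻¹ * on .d := by group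
          _ = _ := by rw [dd, mul_one, mul_one]; group
      rwa [e] at h1
    have hd : ∀ x ∈ M, on .d * x * on .d ∈ M := by
      intro x hx
      rw [hmem] at hx ⊢
      refine ⟨hx.2, ?_⟩
      have e : on .d * (on .d * x * on .d) * on .d = x := by
        calc on .d * (on .d * x * on .d) * on .d = (on .d * on .d) * x * (on .d * on .d) := by group
          _ = x := by rw [dd, one_mul, mul_one]
      rw [e]; exact hx.1
    intro k hk x hx
    rcases mem_J_or hk with h | h
    · exact hJ k h x hx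
    · have h1 := hJ _ h _ (hd x hx)
      have e : k * on .d * (on .d * x * on .d) * (k * on .d)⁻¹ = k * x * k⁻¹ := by
        rw [mul_inv_rev, d_inv]
        calc k * on .d * (on .d * x * on .d) * (on .d * k⁻¹)
            = k * (on .d * on .d) * x * (on .d * on .d) * k⁻¹ := by group
          _ = _ := by rw [dd, mul_one, mul_one]
      rwa [e] at h1
  · rw [hmem]
    refine ⟨ha, ?_⟩
    have := ad_conj
    rw [d_inv] at this
    rw [this]; exact ha

/-! ### `J` is perfect -/

theorem perf : ⁅J, J⁆ = J := by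
  set D : Subgroup ON := ⁅J, J⁆ with hD
  have hDJ : D ≤ J := by
    rw [hD, commutator_le]
    intro x hx y hy
    exact J.mul_mem (J.mul_mem (J.mul_mem hx hy) (J.inv_mem hx)) (J.inv_mem hy)
  have hcm : ∀ x ∈ J, ∀ y ∈ J, x * y * x⁻¹ * y⁻¹ ∈ D := fun x hx y hy => commutator_mem_commutator hx hy
  have hn : ∀ k ∈ K0, ∀ n ∈ D, k * n * k⁻¹ ∈ D := by
    intro k hk n hn
    have h1 : D.map (MulAut.conj k).toMonoidHom ≤ D := by
      rw [hD, map_commutator]
      apply commutator_mono
      · rintro _ ⟨x, hx, rfl⟩; exact J_normal hk hx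
      · rintro _ ⟨x, hx, rfl⟩; exact J_normal hk hx
    exact h1 ⟨n, hn, rfl⟩
  refine eq_J_of hDJ (fun k hk => hn k (J_le hk)) ?_
  have h1 : on .c * (on .b)⁻¹ ∈ D := by
    have := hcm _ (J.mul_mem bJ cJ) _ bJ
    rwa [bc_conj] at this
  have h2 : (on .d * on .c * on .d) * (on .b)⁻¹ ∈ D := by
    have := hn _ d_mem _ h1
    have e : on .d * (on .c * (on .b)⁻¹) * (on .d)⁻¹ =
        (on .d * on .c * (on .d)⁻¹) * (on .d * on .b * (on .d)⁻¹)⁻¹ := by group
    rw [e, bd_conj, d_inv] at this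
    exact this
  have h3 : on .c * (on .d * on .c * on .d) ∈ D := by
    have hb : (on .b)⁻¹ = on .b := inv_eq_of_mul_eq_one_right bb
    have e : on .c * (on .d * on .c * on .d) =
        (on .c * (on .b)⁻¹) * (on .b * ((on .d * on .c * on .d) * (on .b)⁻¹) * (on .b)⁻¹) * (on .b * on .b) := by
      group
    rw [e, bb, mul_one]
    exact D.mul_mem h1 (hn _ b_mem _ h2)
  have h4 : on .a * on .f ∈ D := by
    rw [← cd4]
    exact D.pow_mem h3 2
  have h5 : on .a * on .f * (on .a)⁻¹ ∈ D := by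
    have := hcm _ sJ _ aJ
    rwa [sa] at this
  have h6 : on .a = (on .a * on .f * (on .a)⁻¹)⁻¹ * (on .a * on .f) := by group
  rw [h6]
  exact D.mul_mem (D.inv_mem h5) h4

/-! ### The centre -/

/-- the centraliser of `J` is `⟨v⟩` -/
theorem cent_J {x : ON} (h : ∀ y ∈ J, x * y = y * x) : x ∈ zpowers v := by
  have hK : x ∈ K0 := mem_K0.2 (h _ fJ)
  have hT : x ∈ TupT0.T0 := TupK.mem_T0 hs hK (h _ aJ)
  obtain ⟨l, hl, hx⟩ := TupT0.comm_b hs hT (h _ bJ)
  have hcl : TupT0.exA.all (fun l => TupRow.neJ (l ++ [0]) (0 :: l) ||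
      ([[], [5, 1, 2, 1, 2], [7], [7, 5, 1, 2, 1, 2]] : List (List ℕ)).any fun u => TupRow.eqJ l u) = true := by
    decide +kernel
  have h1 := List.all_eq_true.1 hcl l hl
  rcases Bool.or_eq_true_iff.1 h1 with h2 | h2
  · exfalso
    apply TupRow.neJ_spec h2
    rw [SporadicRecognition.CosetCert.ev_append, SporadicRecognition.CosetCert.ev_cons,
      SporadicRecognition.CosetCert.ev_cons, SporadicRecognition.CosetCert.ev_nil, mul_one, ← hx]
    exact h _ cJ
  · obtain ⟨u, hu, h3⟩ := List.any_eq_true.1 h2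
    have h4 := TupRow.eqJ_spec hs h3
    rw [← hx] at h4
    have hv : on .a * (on .d * (on .g * (on .d * on .g))) = v := by simp [v, w]
    simp only [List.mem_cons, List.not_mem_nil, or_false] at hu
    rcases hu with rfl | rfl | rfl | rfl
    · rw [h4, SporadicRecognition.CosetCert.ev_nil]; exact one_mem _
    · simp only [SporadicRecognition.CosetCert.ev_cons, SporadicRecognition.CosetCert.ev_nil, mul_one] at h4
      have h5 : x = v := h4.trans hv
      rw [h5]; exact mem_zpowers v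
    · simp only [SporadicRecognition.CosetCert.ev_cons, SporadicRecognition.CosetCert.ev_nil, mul_one] at h4
      have h5 : x = v * v := h4.trans vv.symm
      rw [h5]; exact mul_mem (mem_zpowers v) (mem_zpowers v)
    · simp only [SporadicRecognition.CosetCert.ev_cons, SporadicRecognition.CosetCert.ev_nil, mul_one] at h4
      have h5 : x = v * v * v := by
        rw [h4, vv]
        exact congrArg (on .f * ·) hv
      rw [h5]; exact mul_mem (mul_mem (mem_zpowers v) (mem_zpowers v)) (mem_zpowers v)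

end Cfsg.Agent.KFacts.ON.Struct
end

private theorem dce_076e145c6357 : _root_.True := by
  try have : _root_.True := by simp only [_root_.Cfsg.Agent.KFacts.ON.Struct.s.eq_1]
  exact _root_.True.intro
end

-- part: KFacts/ON/Qs
section
set_option linter.all false
open scoped Cfsg.Agent.FastGrp

/-!
# `J = C(v)` is quasisimple

`SJ = S ∩ J` is a Sylow 2-subgroup of `J`; `E = ⟨f, a, s3⟩`; `E⟨v⟩/⟨v⟩` is the centre of `SJ/⟨v⟩`.
-/

set_option autoImplicit false
set_option maxRecDepth 100000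

namespace Cfsg.Agent.KFacts.ON.Qs

open Subgroup
open Cfsg.Spor (ON)
open Cfsg.Spor.ON (Gen)
open Cfsg.Agent.SporadicB.ON45Word (on)
open Cfsg.Agent.KFacts.MulSpor.ON (w w_append w_one w_cons w_iw iw eqw cj)
open Cfsg.Agent.KFacts.ON.Cent (hON finite_ON cen card_K0)
open Cfsg.Agent.KFacts.ON.Words Cfsg.Agent.KFacts.ON.Struct
open Cfsg.Agent.ONType
open Cfsg.Agent.ONType.TupK (K0)
open Cfsg.Agent.ONType.TupRow (gJ eqJ neJ eqJ_spec neJ_spec)
open Cfsg.Agent.ONType.TupT0 (T0 exists_T0)
open Cfsg.Agent.SporadicRecognition.CosetCert (ev ev_nil ev_cons ev_append)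
open scoped commutatorElement

/-! ### The subgroup `E` -/

theorem faC : Commute (on .f) (on .a) := by
  show on .f * on .a = on .a * on .f
  have h : w [.f, .a] = w [.a, .f] := Words.eq _ _ (by decide +kernel)
  simpa [w] using h

theorem fsC : Commute (on .f) s3 := by
  show on .f * s3 = s3 * on .f
  rw [← wf, s3, ← w_append, ← w_append]
  exact Words.eq _ _ (by decide +kernel)

theorem asC : Commute (on .a) s3 := by
  show on .a * s3 = s3 * on .a
  rw [← wa, s3, ← w_append, ← w_append]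
  exact Words.eq _ _ (by decide +kernel)

theorem s3s3 : s3 * s3 = 1 := by
  rw [s3, ← w_append]
  exact Words.eq _ [] (by decide +kernel)

theorem s3J : s3 ∈ J := by
  rw [mem_J, s3, v, ← w_append, ← w_append]
  exact Words.eq _ _ (by decide +kernel)

/-- the product `f^i a^j s3^k` -/
def el (i j k : ℕ) : ON := on .f ^ i * on .a ^ j * s3 ^ k

theorem el_mul (i j k i' j' k' : ℕ) : el i j k * el i' j' k' = el (i + i') (j + j') (k + k') := by
  unfold el
  have h1 : Commute (s3 ^ k) (on .f ^ i') := (fsC.symm.pow_pow _ _)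
  have h2 : Commute (s3 ^ k) (on .a ^ j') := (asC.symm.pow_pow _ _)
  have h3 : Commute (on .a ^ j) (on .f ^ i') := (faC.symm.pow_pow _ _)
  calc on .f ^ i * on .a ^ j * s3 ^ k * (on .f ^ i' * on .a ^ j' * s3 ^ k')
      = on .f ^ i * on .a ^ j * (s3 ^ k * on .f ^ i') * on .a ^ j' * s3 ^ k' := by group
    _ = on .f ^ i * (on .a ^ j * on .f ^ i') * (s3 ^ k * on .a ^ j') * s3 ^ k' := by rw [h1.eq]; group
    _ = on .f ^ i * (on .f ^ i' * on .a ^ j) * (on .a ^ j' * s3 ^ k) * s3 ^ k' := by rw [h2.eq, h3.eq]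
    _ = (on .f ^ i * on .f ^ i') * (on .a ^ j * on .a ^ j') * (s3 ^ k * s3 ^ k') := by group
    _ = _ := by rw [← pow_add, ← pow_add, ← pow_add]

theorem el_sq (i j k : ℕ) : el i j k * el i j k = 1 := by
  rw [el_mul]
  unfold el
  rw [← two_mul, ← two_mul, ← two_mul, pow_mul, pow_mul, pow_mul, pow_two, pow_two, pow_two, ff, aa, s3s3,
    one_pow, one_pow, one_pow, one_mul, one_mul]

/-- the group `⟨f, a, s3⟩` of order 8 -/
def E : Subgroup ON where
  carrier := {x | ∃ i j k, x = el i j k}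
  one_mem' := ⟨0, 0, 0, by simp [el]⟩
  mul_mem' := by
    rintro _ _ ⟨i, j, k, rfl⟩ ⟨i', j', k', rfl⟩
    exact ⟨_, _, _, el_mul _ _ _ _ _ _⟩
  inv_mem' := by
    rintro _ ⟨i, j, k, rfl⟩
    exact ⟨i, j, k, inv_eq_of_mul_eq_one_right (el_sq i j k)⟩

theorem mem_E {x : ON} : x ∈ E ↔ ∃ i j k, x = el i j k := Iff.rfl

theorem E_sq {x : ON} (hx : x ∈ E) : x * x = 1 := by
  obtain ⟨i, j, k, rfl⟩ := hx
  exact el_sq i j k

theorem fE : on .f ∈ E := ⟨1, 0, 0, by simp [el]⟩
theorem aE : on .a ∈ E := ⟨0, 1, 0, by simp [el]⟩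
theorem sE : s3 ∈ E := ⟨0, 0, 1, by simp [el]⟩

theorem E_comm {x y : ON} (hx : x ∈ E) (hy : y ∈ E) : x * y = y * x := by
  obtain ⟨i, j, k, rfl⟩ := hx
  obtain ⟨i', j', k', rfl⟩ := hy
  rw [el_mul, el_mul, Nat.add_comm i, Nat.add_comm j, Nat.add_comm k]

theorem EJ : E ≤ J := by
  rintro _ ⟨i, j, k, rfl⟩
  exact J.mul_mem (J.mul_mem (J.pow_mem fJ _) (J.pow_mem aJ _)) (J.pow_mem s3J _)

theorem pow_two_cases {x : ON} (h : x * x = 1) (n : ℕ) : x ^ n = 1 ∨ x ^ n = x := by
  rcases Nat.even_or_odd' n with ⟨m, rfl | rfl⟩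
  · left; rw [pow_mul, pow_two, h, one_pow]
  · right; rw [pow_succ, pow_mul, pow_two, h, one_pow, one_mul]

theorem E_cases {x : ON} (hx : x ∈ E) : x = 1 ∨ x = on .f ∨ x = on .a ∨ x = on .f * on .a ∨ x = s3 ∨
    x = on .f * s3 ∨ x = on .a * s3 ∨ x = on .f * on .a * s3 := by
  obtain ⟨i, j, k, rfl⟩ := hx
  unfold el
  rcases pow_two_cases ff i with h1 | h1 <;> rcases pow_two_cases aa j with h2 | h2 <;>
    rcases pow_two_cases s3s3 k with h3 | h3 <;> rw [h1, h2, h3] <;> simp

/-! ### Powers of `v` -/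

theorem v4 : v ^ 4 = 1 := by
  have : v ^ 4 = (v * v) * (v * v) := by simp [pow_succ, mul_assoc]
  rw [this, vv, ff]

theorem zv_cases {u : ON} (hu : u ∈ zpowers v) : u = 1 ∨ u = v ∨ u = on .f ∨ u = on .f * v := by
  obtain ⟨n, rfl⟩ := mem_zpowers_iff.1 hu
  have h4 : v ^ (4 : ℤ) = 1 := by exact_mod_cast v4
  have h : v ^ n = v ^ (n % 4) := by
    conv_lhs => rw [← Int.emod_add_mul_ediv n 4, zpow_add, zpow_mul, h4, one_zpow, mul_one]
  rw [h]
  have h1 := Int.emod_nonneg n (show (4 : ℤ) ≠ 0 by norm_num)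
  have h2 := Int.emod_lt_of_pos n (show (0 : ℤ) < 4 by norm_num)
  obtain ⟨m, hm⟩ : ∃ m, m = n % 4 := ⟨_, rfl⟩
  rw [← hm] at h1 h2 ⊢
  interval_cases m
  · left; simp
  · right; left; simp
  · right; right; left
    rw [← vv]; exact zpow_two v
  · right; right; right
    rw [← vv]
    rfl

theorem zv_comm {u x : ON} (hu : u ∈ zpowers v) (hx : x ∈ J) : x * u = u * x := by
  obtain ⟨n, rfl⟩ := mem_zpowers_iff.1 hu
  have h : Commute x v := mem_J.1 hx
  exact h.zpow_right n

/-! ### The Sylow subgroup of `J` -/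

theorem s_eq : TupS.s = s := by
  have h : eqJ [6, 5, 0, 6, 1, 0, 6, 1, 3, 6, 0, 2, 6] [6, 5, 0, 6, 1, 0, 6, 1, 2, 2, 2, 6, 0, 2, 6] = true := by
    decide +kernel
  have h1 := eqJ_spec hs h
  have h2 : TupS.s = ev gJ [6, 5, 0, 6, 1, 0, 6, 1, 3, 6, 0, 2, 6] := rfl
  rw [h2, h1]
  simp only [ev_cons, ev_nil, gJ, s, w, List.map_cons, List.map_nil, List.prod_cons, List.prod_nil]

/-- the Sylow 2-subgroup of `J` -/
def SJ : Subgroup ON := TupS.S hs ⊓ J

theorem T0_le_S : T0 ≤ TupS.S hs := TupS.T0_le_S hs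

theorem cSJ : on .c ∈ SJ := ⟨T0_le_S TupT0.c_mem, cJ⟩

theorem dgJ : on .d * on .g ∈ J := by
  rw [mem_J]
  have h : w (([.d, .g] : List Cfsg.Spor.ON.Gen) ++ ([.a, .d, .g, .d, .g] : List Cfsg.Spor.ON.Gen)) = w (([.a, .d, .g, .d, .g] : List Cfsg.Spor.ON.Gen) ++ ([.d, .g] : List Cfsg.Spor.ON.Gen)) :=
    Words.eq _ _ (by decide +kernel)
  rw [w_append, w_append, w_cons, w_one] at h
  exact h

theorem dgSJ : on .d * on .g ∈ SJ := ⟨T0_le_S (T0.mul_mem TupT0.d_mem TupT0.g_mem), dgJ⟩

theorem sS : s ∈ TupS.S hs := by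
  rw [← s_eq]
  right
  rw [TupS.ss hs]; exact T0.one_mem

theorem sSJ : s ∈ SJ := ⟨sS, sJ⟩

theorem aSJ : on .a ∈ SJ := ⟨T0_le_S (TupT0.a_mem hs), aJ⟩
theorem fSJ : on .f ∈ SJ := ⟨T0_le_S (TupT0.f_mem hs), fJ⟩

theorem vT : v ∈ T0 := T0.mul_mem (TupT0.a_mem hs) (by
  exact T0.mul_mem TupT0.d_mem (T0.mul_mem TupT0.g_mem (T0.mul_mem TupT0.d_mem (T0.mul_mem TupT0.g_mem T0.one_mem))))

theorem vSJ : v ∈ SJ := ⟨T0_le_S vT, vJ⟩

theorem s3T : s3 ∈ T0 := by
  simp only [s3, w, List.map_cons, List.map_nil, List.prod_cons, List.prod_nil, mul_one]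
  exact T0.mul_mem TupT0.c_mem (T0.mul_mem TupT0.d_mem (T0.mul_mem TupT0.g_mem (T0.mul_mem TupT0.c_mem
    (T0.mul_mem TupT0.d_mem TupT0.g_mem))))

theorem ESJ : E ≤ SJ := by
  rintro _ ⟨i, j, k, rfl⟩
  exact SJ.mul_mem (SJ.mul_mem (SJ.pow_mem fSJ _) (SJ.pow_mem aSJ _)) (SJ.pow_mem ⟨T0_le_S s3T, s3J⟩ _)

theorem dS : on .d ∈ TupS.S hs := T0_le_S TupT0.d_mem

theorem index_SJ : (SJ.subgroupOf (TupS.S hs)).index = 2 := by
  rw [Subgroup.index_eq_two_iff]
  refine ⟨⟨on .d, dS⟩, ?_⟩
  rintro ⟨x, hx⟩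
  rw [Subgroup.mem_subgroupOf, Subgroup.mem_subgroupOf]
  show Xor (x * on .d ∈ SJ) (x ∈ SJ)
  have hnot : ¬ (x * on .d ∈ SJ ∧ x ∈ SJ) := by
    rintro ⟨h2, h3⟩
    apply d_not_mem
    have := J.mul_mem (J.inv_mem h3.2) h2.2
    rwa [inv_mul_cancel_left] at this
  rcases mem_J_or (TupS.S_le hs hx) with h | h
  · exact Or.inr ⟨⟨hx, h⟩, fun h' => hnot ⟨h', ⟨hx, h⟩⟩⟩
  · exact Or.inl ⟨⟨(TupS.S hs).mul_mem hx dS, h⟩, fun h' => hnot ⟨⟨(TupS.S hs).mul_mem hx dS, h⟩, h'⟩⟩

theorem card_S : Nat.card (TupS.S hs) = 512 := TupS.card_S hs card_K0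

theorem card_SJ : Nat.card SJ = 256 := by
  have h2 := Subgroup.card_mul_index (SJ.subgroupOf (TupS.S hs))
  have hle : SJ ≤ TupS.S hs := inf_le_left
  rw [index_SJ, Nat.card_congr (Subgroup.subgroupOfEquivOfLe hle).toEquiv, card_S] at h2
  omega

theorem SJ_le : SJ ≤ J := inf_le_right

theorem card_sub : Nat.card (SJ.subgroupOf J) = 256 := by
  rw [Nat.card_congr (Subgroup.subgroupOfEquivOfLe SJ_le).toEquiv, card_SJ]

/-- `SJ` as a Sylow subgroup of `J` -/
noncomputable def sylJ : Sylow 2 J :=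
  haveI : Fact (Nat.Prime 2) := ⟨Nat.prime_two⟩
  (IsPGroup.of_card (n := 8) (by rw [card_sub]; norm_num) : IsPGroup 2 (SJ.subgroupOf J)).toSylow (by
    have h2 := Subgroup.card_mul_index (SJ.subgroupOf J)
    rw [card_sub, card_J] at h2
    have h3 : (SJ.subgroupOf J).index = 315 := by omega
    rw [h3]; norm_num)

theorem mem_sylJ {x : J} : x ∈ sylJ ↔ (x : ON) ∈ SJ := Iff.rfl

/-! ### The centre modulo `⟨v⟩` -/

def sw : List ℕ := [6, 5, 0, 6, 1, 0, 6, 1, 3, 6, 0, 2, 6]
def vw : List ℕ := [5, 1, 2, 1, 2]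
def vl : List (List ℕ) := [[], vw, [7], 7 :: vw]
def el8 : List (List ℕ) := [[], [7], [5], [7, 5], [0, 1, 2, 0, 1, 2], [7, 0, 1, 2, 0, 1, 2], [5, 0, 1, 2, 0, 1, 2],
  [7, 5, 0, 1, 2, 0, 1, 2]]

noncomputable def allne (x y : List ℕ) : Bool := vl.all fun u => neJ (x ++ y) (u ++ (y ++ x))

theorem ev_sw : ev gJ sw = s := s_eq

theorem ev_vw : ev gJ vw = v := by
  simp only [vw, ev_cons, ev_nil, gJ, v, w, List.map_cons, List.map_nil, List.prod_cons, List.prod_nil]

theorem ev_s3 : ev gJ [0, 1, 2, 0, 1, 2] = s3 := by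
  simp only [ev_cons, ev_nil, gJ, s3, w, List.map_cons, List.map_nil, List.prod_cons, List.prod_nil]

theorem allne_spec {x y : List ℕ} (h : allne x y = true) {u : ON} (hu : u ∈ zpowers v) :
    ev gJ x * ev gJ y ≠ u * (ev gJ y * ev gJ x) := by
  have h1 := fun l hl => neJ_spec (List.all_eq_true.1 h l hl)
  simp only [ev_append] at h1
  rcases zv_cases hu with rfl | rfl | rfl | rfl
  · have := h1 [] (by simp [vl])
    rwa [ev_nil] at this
  · have := h1 vw (by simp [vl])
    rwa [ev_vw] at this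
  · have := h1 [7] (by simp [vl])
    rw [ev_cons, ev_nil, mul_one] at this
    exact this
  · have := h1 (7 :: vw) (by simp [vl])
    rw [ev_cons, ev_vw] at this
    exact this

theorem el8_mem {l : List ℕ} (hl : l ∈ el8) : ev gJ l ∈ E := by
  simp only [el8, List.mem_cons, List.not_mem_nil, or_false] at hl
  have h7 : gJ 7 = on .f := rfl
  have h5 : gJ 5 = on .a := rfl
  rcases hl with rfl | rfl | rfl | rfl | rfl | rfl | rfl | rfl
  · rw [ev_nil]; exact E.one_mem
  · rw [ev_cons, ev_nil, mul_one, h7]; exact fE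
  · rw [ev_cons, ev_nil, mul_one, h5]; exact aE
  · rw [ev_cons, ev_cons, ev_nil, mul_one, h7, h5]; exact E.mul_mem fE aE
  · rw [ev_s3]; exact sE
  · rw [ev_cons, ev_s3, h7]; exact E.mul_mem fE sE
  · rw [ev_cons, ev_s3, h5]; exact E.mul_mem aE sE
  · rw [ev_cons, ev_cons, ev_s3, h5, h7]; exact E.mul_mem fE (E.mul_mem aE sE)

set_option Elab.async false in
/-- elements of `S` commuting with `c, dg, s` modulo `⟨v⟩` are in `E⟨v⟩` -/
theorem center_mod {x : ON} (hx : x ∈ TupS.S hs) (h : ∀ y ∈ SJ, ∃ u ∈ zpowers v, x * y = u * (y * x)) :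
    ∃ e ∈ E, x = e ∨ x = e * v := by
  rcases hx with hx | hx
  · have hQ : TupCover.allLive TupTData.C (fun _ w => allne w [0] || allne w [1, 2] || allne w sw ||
      el8.any fun u => eqJ w u || eqJ w (u ++ vw)) = true := by (rewrite [show @Cfsg.Agent.ONType.TupRow.eqJ = delta% @Cfsg.Agent.ONType.TupRow.eqJ from by delta Cfsg.Agent.ONType.TupRow.eqJ; rfl, show @Cfsg.Agent.ONType.TupRow.eqM = delta% @Cfsg.Agent.ONType.TupRow.eqM from by delta Cfsg.Agent.ONType.TupRow.eqM; rfl, Cfsg.Agent.Lib.PackCol.checkEq_col]; decide +kernel)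
    obtain ⟨l, -, h1, h2⟩ := exists_T0 hs hQ hx
    rcases Bool.or_eq_true_iff.1 h1 with h3 | h3
    · exfalso
      rcases Bool.or_eq_true_iff.1 h3 with h3 | h3
      · rcases Bool.or_eq_true_iff.1 h3 with h3 | h3
        · obtain ⟨u, hu, h4⟩ := h _ cSJ
          apply allne_spec h3 hu
          rw [← h2, ev_cons, ev_nil, mul_one]
          exact h4
        · obtain ⟨u, hu, h4⟩ := h _ dgSJ
          apply allne_spec h3 hu
          rw [← h2, ev_cons, ev_cons, ev_nil, mul_one]
          exact h4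
      · obtain ⟨u, hu, h4⟩ := h _ sSJ
        apply allne_spec h3 hu
        rw [← h2, ev_sw]
        exact h4
    · obtain ⟨u, hu, h4⟩ := List.any_eq_true.1 h3
      refine ⟨_, el8_mem hu, ?_⟩
      rcases Bool.or_eq_true_iff.1 h4 with h5 | h5
      · left
        rw [h2]; exact eqJ_spec hs h5
      · right
        have := eqJ_spec hs h5
        rw [ev_append, ev_vw] at this
        rw [h2]; exact this
  · exfalso
    have hQ : TupCover.allLive TupTData.C (fun _ w => allne (w ++ sw) [0] || allne (w ++ sw) [1, 2] ||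
      allne (w ++ sw) sw) = true := by decide +kernel
    rw [s_eq] at hx
    obtain ⟨l, -, h1, h2⟩ := exists_T0 hs hQ hx
    have hss : s * s = 1 := by rw [← s_eq]; exact TupS.ss hs
    have h3 : x = ev gJ (TupCover.nword TupTData.C l ++ sw) := by
      rw [ev_append, ev_sw, ← h2, mul_assoc, hss, mul_one]
    rcases Bool.or_eq_true_iff.1 h1 with h4 | h4
    · rcases Bool.or_eq_true_iff.1 h4 with h4 | h4
      · obtain ⟨u, hu, h5⟩ := h _ cSJ
        apply allne_spec h4 hu
        rw [← h3, ev_cons, ev_nil, mul_one]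
        exact h5
      · obtain ⟨u, hu, h5⟩ := h _ dgSJ
        apply allne_spec h4 hu
        rw [← h3, ev_cons, ev_cons, ev_nil, mul_one]
        exact h5
    · obtain ⟨u, hu, h5⟩ := h _ sSJ
      apply allne_spec h4 hu
      rw [← h3, ev_sw]
      exact h5

/-! ### Conjugacy in `E` -/

theorem conj_aux {l : List Gen} {m : List Gen}
    (h1 : MulSpor.ON.okw (l ++ ([.a] : List Cfsg.Spor.ON.Gen) ++ iw (m ++ l)) = true)
    (h2 : MulSpor.ON.okw ((l ++ ([.a, .d, .g, .d, .g] : List Cfsg.Spor.ON.Gen)) ++ iw (([.a, .d, .g, .d, .g] : List Cfsg.Spor.ON.Gen) ++ l)) = true) :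
    ∃ g ∈ J, g * on .a * g⁻¹ = w m := by
  refine ⟨w l, ?_, ?_⟩
  · rw [mem_J, v, ← w_append, ← w_append]
    exact Words.eq _ _ h2
  · rw [← wa]
    exact Words.conj _ _ _ h1

theorem E_conj {x : ON} (hx : x ∈ E) : x = 1 ∨ x = on .f ∨ ∃ g ∈ J, g * on .a * g⁻¹ = x := by
  rcases E_cases hx with h | h | h | h | h | h | h | h
  · exact Or.inl h
  · exact Or.inr (Or.inl h)
  · right; right
    exact ⟨1, J.one_mem, by rw [h]; group⟩
  · right; right
    have h1 : x = w [.f, .a] := by rw [h, w_cons, w_one]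
    rw [h1]
    exact conj_aux (l := [.b, .g, .g, .g, .c, .b, .g, .d, .b, .c, .d, .b, .c, .a, .b]) (by decide +kernel)
      (by decide +kernel)
  · right; right
    rw [h]
    exact conj_aux (l := [.b, .g, .c, .d, .b, .c, .a, .b, .g, .d, .c, .b]) (by decide +kernel)
      (by decide +kernel)
  · right; right
    have h1 : x = w (.f :: [.c, .d, .g, .c, .d, .g]) := by rw [h, w_cons]; rfl
    rw [h1]
    exact conj_aux (l := [.b, .c, .d, .c, .b, .g, .g, .g, .b, .g, .c, .d, .c, .b]) (by decide +kernel)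
      (by decide +kernel)
  · right; right
    have h1 : x = w (.a :: [.c, .d, .g, .c, .d, .g]) := by rw [h, w_cons]; rfl
    rw [h1]
    exact conj_aux (l := [.b, .c, .g, .g, .g, .d, .b, .c, .d, .a, .b, .c, .g, .g, .g, .b]) (by decide +kernel)
      (by decide +kernel)
  · right; right
    have h1 : x = w (.f :: .a :: [.c, .d, .g, .c, .d, .g]) := by rw [h, w_cons, w_cons, mul_assoc]; rfl
    rw [h1]
    exact conj_aux (l := [.b, .g, .g, .g, .c, .d, .c, .b, .g, .b, .c, .d, .c, .b]) (by decide +kernel)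
      (by decide +kernel)

/-! ### Quasisimplicity -/

theorem mem_center {x : J} : x ∈ center J ↔ (x : ON) ∈ zpowers v := by
  constructor
  · intro h
    apply cent_J
    intro y hy
    exact (congrArg Subtype.val (mem_center_iff.1 h ⟨y, hy⟩)).symm
  · intro h
    rw [mem_center_iff]
    intro y
    exact Subtype.ext (zv_comm h y.2)

theorem isPerfect_J : Group.IsPerfect J := isPerfect_iff.2 perf

theorem a_not_zv : on .a ∉ zpowers v := by
  intro h
  have h1 := zv_comm h sJ
  have h2 := sa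
  rw [h1, mul_inv_cancel_right] at h2
  apply f_ne_one
  have h3 := congrArg (fun y => (on .a)⁻¹ * y) h2
  simp only [inv_mul_cancel, inv_mul_cancel_left] at h3
  exact h3.symm

theorem simple_J : IsSimpleGroup (J ⧸ center J) := by
  have : Fact (Nat.Prime 2) := ⟨Nat.prime_two⟩
  have := finite_ON
  have := isPerfect_J
  let A : J := ⟨on .a, aJ⟩
  have hA : A ∉ center J := fun h => a_not_zv (mem_center.1 h)
  have hAne : (QuotientGroup.mk' (center J)) A ≠ 1 := by
    intro h
    exact hA ((QuotientGroup.eq_one_iff _).1 h)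
  have : Nontrivial (J ⧸ center J) := ⟨_, _, hAne⟩
  have hmk := QuotientGroup.mk'_surjective (center J)
  refine SimpleCrit.simple_of (a := QuotientGroup.mk' (center J) A) ?_ Group.IsPerfect.commutator_eq_top ?_ ?_
    (sylJ.mapSurjective hmk) ?_
  · rw [← map_mul]
    have : A * A = 1 := Subtype.ext aa
    rw [this, map_one]
  · intro N hN haN
    have h1 : (N.comap (QuotientGroup.mk' (center J))).map J.subtype = J := by
      apply eq_J_of
      · exact map_subtype_le _
      · rintro k hk _ ⟨x, hx, rfl⟩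
        refine ⟨⟨k, hk⟩ * x * ⟨k, hk⟩⁻¹, ?_, rfl⟩
        exact (hN.comap _).conj_mem x hx _
      · exact ⟨A, haN, rfl⟩
    have h2 : N.comap (QuotientGroup.mk' (center J)) = ⊤ := by
      rw [eq_top_iff]
      intro x _
      have h3 : (x : ON) ∈ (N.comap (QuotientGroup.mk' (center J))).map J.subtype := by rw [h1]; exact x.2
      obtain ⟨y, hy, hyx⟩ := h3
      have : y = x := Subtype.ext hyx
      rwa [← this]
    rw [eq_top_iff]
    intro y _
    obtain ⟨x, rfl⟩ := hmk y
    have : x ∈ N.comap (QuotientGroup.mk' (center J)) := by rw [h2]; exact mem_top x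
    exact this
  · intro y hy
    obtain ⟨x, rfl⟩ := hmk y
    rw [← map_mul, ← map_mul] at hy
    have h1 : (A * x)⁻¹ * (x * A) ∈ center J := QuotientGroup.eq.1 hy.symm
    obtain ⟨u, hu⟩ : ∃ u, u = (A * x)⁻¹ * (x * A) := ⟨_, rfl⟩
    rw [← hu] at h1
    -- `x a = a x u`
    have h2 : x * A = A * x * u := by rw [hu]; group
    have huc : ∀ y : J, y * u = u * y := fun y => mem_center_iff.1 h1 y
    have hAA : A * A = 1 := Subtype.ext aa
    have h3 : x * A * x⁻¹ = A * u := by
      rw [h2, mul_assoc (A * x), ← huc x⁻¹]; group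
    have h4 : u * u = 1 := by
      have e1 : (A * u) * (A * u) = 1 := by
        rw [← h3]
        calc x * A * x⁻¹ * (x * A * x⁻¹) = x * (A * A) * x⁻¹ := by group
          _ = 1 := by rw [hAA]; group
      calc u * u = (A * A) * (u * u) := by rw [hAA, one_mul]
        _ = A * (A * u) * u := by group
        _ = A * (u * A) * u := by rw [huc A]
        _ = (A * u) * (A * u) := by group
        _ = 1 := e1
    have h5 : (x * x) * A = A * (x * x) := by
      calc (x * x) * A = x * (x * A * x⁻¹) * x := by group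
        _ = x * (A * u) * x := by rw [h3]
        _ = (x * A * x⁻¹) * (x * u * x) := by group
        _ = A * u * (u * x * x) := by rw [h3, huc x]
        _ = A * (u * u) * (x * x) := by group
        _ = A * (x * x) := by rw [h4, mul_one]
    have h6 : ((x * x : J) : ON) ∈ T0 := by
      apply TupK.mem_T0 hs (J_le (x * x).2)
      exact congrArg Subtype.val h5
    have h7 : ((x * x : J) : ON) ^ 256 = 1 := by
      have h8 : Nat.card T0 = 256 := TupS.card_T0 hs card_K0
      have h9 := pow_card_eq_one' (x := (⟨_, h6⟩ : T0))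
      rw [h8] at h9
      exact congrArg Subtype.val h9
    refine ⟨9, ?_⟩
    rw [← map_pow]
    have h8 : x ^ 2 ^ 9 = 1 := by
      apply Subtype.ext
      have h9 : (x : ON) ^ 2 ^ 9 = ((x * x : J) : ON) ^ 256 := by
        rw [Subgroup.coe_mul, ← pow_two, ← pow_mul]
        norm_num
      rw [Subgroup.coe_pow, h9, h7]
      rfl
    rw [h8, map_one]
  · intro y hy hyc
    obtain ⟨x, hx, rfl⟩ := (show y ∈ (sylJ : Subgroup J).map (QuotientGroup.mk' (center J)) from hy)
    have hxS : (x : ON) ∈ SJ := hx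
    obtain ⟨e, he, h1⟩ := center_mod hxS.1 (by
      intro z hz
      let Z : J := ⟨z, SJ_le hz⟩
      have hZ : Z ∈ sylJ := hz
      have h1 := hyc (QuotientGroup.mk' (center J) Z) ⟨Z, hZ, rfl⟩
      rw [← map_mul, ← map_mul] at h1
      have h2 : (Z * x)⁻¹ * (x * Z) ∈ center J := QuotientGroup.eq.1 h1.symm
      have h3 := mem_center.1 h2
      refine ⟨_, h3, ?_⟩
      have h4 : ((Z * x : J) : ON) * (((Z * x)⁻¹ * (x * Z) : J) : ON) =
          (((Z * x)⁻¹ * (x * Z) : J) : ON) * ((Z * x : J) : ON) := zv_comm h3 (Z * x).2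
      have h5 : ((x * Z : J) : ON) = ((Z * x : J) : ON) * (((Z * x)⁻¹ * (x * Z) : J) : ON) := by
        rw [← Subgroup.coe_mul]; congr 1; group
      calc (x : ON) * z = ((x * Z : J) : ON) := rfl
        _ = _ := h5
        _ = _ := h4
        _ = _ := rfl)
    have hve : ∀ (g : J) (e' : J), (e' : ON) = e → (x : ON) = e' ∨ (x : ON) = e' * v →
        QuotientGroup.mk' (center J) x = QuotientGroup.mk' (center J) e' := by
      intro _ e' he' h
      rcases h with h | h
      · congr 1
        exact Subtype.ext h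
      · have h2 : x = e' * ⟨v, vJ⟩ := Subtype.ext h
        have h3 : QuotientGroup.mk' (center J) ⟨v, vJ⟩ = 1 :=
          (QuotientGroup.eq_one_iff _).2 (mem_center.2 (mem_zpowers v))
        rw [h2, map_mul, h3, mul_one]
    rcases E_conj he with h2 | h2 | ⟨g, hg, h2⟩
    · left
      rw [hve 1 1 h2.symm (by rw [h2] at h1; exact h1), map_one]
    · left
      rw [hve 1 ⟨on .f, fJ⟩ h2.symm (by rw [h2] at h1; exact h1)]
      apply (QuotientGroup.eq_one_iff _).2
      rw [mem_center]
      show on .f ∈ zpowers v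
      rw [← vv]
      exact mul_mem (mem_zpowers v) (mem_zpowers v)
    · right
      refine ⟨QuotientGroup.mk' (center J) ⟨g, hg⟩, ?_⟩
      rw [← map_inv, ← map_mul, ← map_mul]
      symm
      apply hve 1 _ h2
      have h3 : ((⟨g, hg⟩ * A * ⟨g, hg⟩⁻¹ : J) : ON) = e := h2
      rw [h3]
      exact h1

/-- **`J` is quasisimple.** -/
theorem qs : IsQuasisimple J := ⟨isPerfect_J, simple_J⟩

end Cfsg.Agent.KFacts.ON.Qs

private theorem dce_ebe93fdfea58 : _root_.True := by
  try have : _root_.True := by simp only [_root_.Cfsg.Agent.ONType.TupRow.gJ.eq_2]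
  try have : _root_.True := by simp only [_root_.Cfsg.Agent.ONType.TupRow.gJ.eq_1]
  try have : _root_.True := by simp only [_root_.Cfsg.Agent.ONType.TupRow.gJ.eq_10]
  try have : _root_.True := by simp only [_root_.Cfsg.Agent.KFacts.ON.Qs.el8.eq_1]
  try have : _root_.True := by simp only [_root_.Cfsg.Agent.KFacts.ON.Qs.vw.eq_1]
  try have : _root_.True := by simp only [_root_.Cfsg.Agent.ONType.TupRow.gJ.eq_5]
  try have : _root_.True := by simp only [_root_.Cfsg.Agent.ONType.TupRow.gJ.eq_3]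
  try have : _root_.True := by simp only [_root_.Cfsg.Agent.ONType.TupRow.gJ.eq_9]
  try have : _root_.True := by simp only [_root_.Cfsg.Agent.ONType.TupRow.gJ.eq_7]
  try have : _root_.True := by simp only [_root_.Cfsg.Agent.ONType.TupRow.gJ.eq_8]
  try have : _root_.True := by simp only [_root_.Cfsg.Agent.KFacts.ON.Qs.el.eq_1]
  try have : _root_.True := by simp only [_root_.Cfsg.Agent.ONType.TupRow.gJ.eq_4]
  try have : _root_.True := by simp only [_root_.Cfsg.Agent.ONType.TupRow.gJ.eq_6]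
  try have : _root_.True := by simp only [_root_.Cfsg.Agent.KFacts.ON.Qs.vl.eq_1]
  try have : _root_.True := by simp only [_root_.Cfsg.Agent.ONType.TupRow.gJ.eq_11]
  try have : _root_.True := by simp only [_root_.Cfsg.Agent.KFacts.ON.Words.s3.eq_1]
  exact _root_.True.intro
end
end
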